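-- Arithmetic of the degrees in the principal block of a group with dihedral Sylow 2-subgroups.
--
-- The two order formulas make a quadratic form in the degrees a square; with `b = 1` this leaves
-- two possibilities, those of the alternating group of degree seven and a spurious one.
import Cfsg.Agent.EqLemmas
import Mathlib.Tactic

set_option autoImplicit false

namespace Cfsg.Agent.GWSeven

/-- `g² = R² + 16 M A` with `R = 4 M (A - 2) + A` has very few solutions. -/
theorem square_cases {A M g : ℤ} (hA : 4 ≤ A) (hAe : Even A) (hM : M ≠ 0) (hg : 0 ≤ g)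
    (h : g ^ 2 = (4 * M * (A - 2) + A) ^ 2 + 16 * M * A) :
    (A = 4 ∧ M = -2) ∨ (A = 6 ∧ M = -1) ∨ (A = 6 ∧ M = -2) ∨ (A = 10 ∧ M = -1) := by
  obtain ⟨B, rfl⟩ := hAe
  set R := 4 * M * (B + B - 2) + (B + B) with hR
  rcases lt_or_gt_of_ne hM with hM | hM
  · -- negative
    obtain ⟨m, rfl⟩ : ∃ m, M = -m := ⟨-M, by ring⟩
    have hm : 1 ≤ m := by omega
    have hRpos : R < 0 := by rw [hR]; nlinarith
    have hlt : g < -R := by
      by_contra hle
      push Not at hle
      nlinarith [mul_le_mul hle hle (by omega) hg]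
    have hev : (2 : ℤ) ∣ (-R - g) := by
      have h2 : (2 : ℤ) ∣ g ^ 2 := ⟨2 * (2 * (-m) * (B + B - 2) + B) ^ 2 + 8 * (-m) * (B + B), by rw [h, hR]; ring⟩
      have h3 := Int.Prime.dvd_pow' Nat.prime_two h2
      exact Int.dvd_sub ⟨2 * m * (B + B - 2) - B, by rw [hR]; ring⟩ h3
    obtain ⟨j, hj⟩ := hev
    have hj1 : 1 ≤ j := by omega
    have hkey : j * (-R - j) = 4 * m * (B + B) := by
      have : g = -R - 2 * j := by omega
      subst this
      nlinarith
    have hj2 : 2 ≤ j := by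
      by_contra hlt2
      have : j = 1 := by omega
      subst this
      rw [hR] at hkey
      nlinarith
    have hbound : (2 * m - 1) * (B + B - 4) ≤ 6 := by
      have hj3 : 2 * j ≤ -R := by omega
      have h2 : 2 * (-R - 2) ≤ j * (-R - j) := by nlinarith
      rw [hkey, hR] at h2
      nlinarith
    have hB : B ≤ 5 := by nlinarith
    have hB' : 2 ≤ B := by omega
    interval_cases B
    · refine Or.inl ⟨rfl, ?_⟩
      -- `g = 4 k` and `(2 m - 2) ^ 2 - k ^ 2 = 3`
      obtain ⟨k, rfl⟩ : (4 : ℤ) ∣ g := by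
        have h16 : (4 : ℤ) ^ 2 ∣ g ^ 2 := ⟨(2 * (-m) + 1) ^ 2 + 4 * (-m), by rw [h, hR]; ring⟩
        exact (Int.pow_dvd_pow_iff two_ne_zero).mp h16
      have hk : k ^ 2 + 3 = (2 * m - 2) ^ 2 := by rw [hR] at h; linarith
      have hk0 : 0 ≤ k := by omega
      have hm2 : 2 ≤ m := by nlinarith
      have hk1 : k + 1 ≤ 2 * m - 2 := by nlinarith
      nlinarith [mul_le_mul_of_nonneg_right hk1 (by omega : (0 : ℤ) ≤ k + (2 * m - 2))]
    · -- A = 6
      have hm2 : m ≤ 2 := by omega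
      interval_cases m <;> simp
    · -- A = 8
      have hm2 : m = 1 := by omega
      subst hm2
      rw [hR] at h
      norm_num at h
      have hg12 : g < 12 := by nlinarith
      interval_cases g <;> omega
    · have hm2 : m = 1 := by omega
      subst hm2
      simp
  · -- positive
    exfalso
    have hRpos : 0 < R := by rw [hR]; nlinarith
    have hlt : R < g := by
      by_contra hle
      push Not at hle
      nlinarith [mul_le_mul hle hle hg (by omega)]
    have hev : (2 : ℤ) ∣ (g - R) := by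
      have h2 : (2 : ℤ) ∣ g ^ 2 := ⟨2 * (2 * M * (B + B - 2) + B) ^ 2 + 8 * M * (B + B), by rw [h, hR]; ring⟩
      have h3 := Int.Prime.dvd_pow' Nat.prime_two h2
      exact Int.dvd_sub h3 ⟨2 * M * (B + B - 2) + B, by rw [hR]; ring⟩
    obtain ⟨j, hj⟩ := hev
    have hj1 : 1 ≤ j := by omega
    have hkey : j * (R + j) = 4 * M * (B + B) := by
      have : g = R + 2 * j := by omega
      subst this
      nlinarith
    rcases (show j = 1 ∨ 2 ≤ j by omega) with rfl | hj2
    · rw [hR] at hkey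
      ring_nf at hkey
      omega
    · have h2 : 2 * (R + 2) ≤ j * (R + j) := by nlinarith
      rw [hkey, hR] at h2
      nlinarith

/-- The possible degrees when `b = 1 < a`. -/
theorem degree_cases {X Y Z a : ℤ} (ha : 3 ≤ a) (hao : Odd a) (hX8 : (8 : ℤ) ∣ X - 1) (hX1 : X ≠ 1)
    (hYZ : Y + Z = 1 + X)
    (hE : (X + 1) ^ 2 * (a + 1) ^ 2 * (Y * Z - X) = 4 * a * (X - 1) ^ 2 * (Y * Z)) :
    (a = 3 ∧ X = -15) ∨ (a = 5 ∧ X = -7) := by
  set F := (a + 1) ^ 2 * (X + 1) ^ 2 - 4 * a * (X - 1) ^ 2 with hF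
  obtain ⟨M, hM⟩ := hX8
  obtain rfl : X = 8 * M + 1 := by omega
  have hM0 : M ≠ 0 := by omega
  have hsq : F * (Y - Z) ^ 2 = ((8 * M + 1 + 1) * (8 * M + 1 - 1) * (a - 1)) ^ 2 := by
    have hZ : Z = 1 + (8 * M + 1) - Y := by omega
    subst hZ
    rw [hF]
    linear_combination (-4) * hE
  have hne : Y - Z ≠ 0 := by
    intro h0
    rw [h0] at hsq
    have h1 : (8 * M + 1 + 1) * (8 * M + 1 - 1) * (a - 1) = 0 := sq_eq_zero_iff.mp (by rw [← hsq]; ring)
    rcases mul_eq_zero.mp h1 with h2 | h2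
    · rcases mul_eq_zero.mp h2 with h3 | h3 <;> omega
    · omega
  obtain ⟨f, hf⟩ : Y - Z ∣ (8 * M + 1 + 1) * (8 * M + 1 - 1) * (a - 1) :=
    (Int.pow_dvd_pow_iff two_ne_zero).mp ⟨F, by rw [← hsq]; ring⟩
  have hFf : F = f ^ 2 := by
    rw [hf, mul_pow, mul_comm] at hsq
    exact mul_left_cancel₀ (pow_ne_zero 2 hne) hsq
  have hF4 : F = 4 * ((4 * M * (a + 1 - 2) + (a + 1)) ^ 2 + 16 * M * (a + 1)) := by rw [hF]; ring
  obtain ⟨g, rfl⟩ : (2 : ℤ) ∣ f :=
    (Int.pow_dvd_pow_iff two_ne_zero).mp ⟨(4 * M * (a + 1 - 2) + (a + 1)) ^ 2 + 16 * M * (a + 1),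
      by rw [← hFf, hF4]; ring⟩
  have hg : |g| ^ 2 = (4 * M * (a + 1 - 2) + (a + 1)) ^ 2 + 16 * M * (a + 1) := by
    rw [sq_abs]; rw [hF4] at hFf; linarith
  rcases square_cases (by omega) hao.add_one hM0 (abs_nonneg g) hg with h | h | ⟨hA, rfl⟩ | ⟨hA, rfl⟩
  · omega
  · omega
  · exfalso
    obtain rfl : a = 5 := by omega
    have hg2 : g ^ 2 = 22 ^ 2 := by rw [← sq_abs, hg]; norm_num
    rcases sq_eq_sq_iff_eq_or_eq_neg.mp hg2 with rfl | rfl <;> omega
  · exfalso
    obtain rfl : a = 9 := by omega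
    have hg2 : g ^ 2 = 18 ^ 2 := by rw [← sq_abs, hg]; norm_num
    rcases sq_eq_sq_iff_eq_or_eq_neg.mp hg2 with rfl | rfl <;> omega

end Cfsg.Agent.GWSeven
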