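-- Orders of groups with dihedral Sylow 2-subgroups and a reflection centralising part of the core.
--
-- With `|C(J)| = 2ⁿ u`, `|C(J, τ)| = 4 a`, `a ≥ 3` odd and `|C(J, στ)| = 4` this gives `n = 3`
-- and two possible orders; for `u = a` these are 2520 and 7560.
import Cfsg.Agent.Lib.GWSeven.SectionFormula
import Cfsg.Agent.Lib.GWSeven.Arith
import Cfsg.Agent.Lib.Blocks.Induced

set_option autoImplicit false

namespace Cfsg.Agent.GWSeven

open Cfsg

variable {G : Type*} [Group G] [Finite G]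

/-- The possible orders of a group with one class of involutions, dihedral Sylow 2-subgroup
`⟨σ, τ⟩` of order `2 ^ (k + 3)`, and joint centralisers of orders `4 a` and `4`. -/
theorem order_cases (k : ℕ) (P : Sylow 2 G) (σ τ : G) (hσ : σ ∈ (P : Subgroup G)) (hτ : τ ∈ (P : Subgroup G))
    (hσo : orderOf σ = 2 ^ (k + 2)) (hτo : orderOf τ = 2) (hrel : τ * σ * τ⁻¹ = σ⁻¹)
    (hgen : Subgroup.closure ({σ, τ} : Set G) = (P : Subgroup G))
    (hconj : IsConj (σ ^ 2 ^ (k + 1)) τ ∧ IsConj (σ ^ 2 ^ (k + 1)) (σ * τ))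
    (u a : ℕ) (hu : Odd u) (ha : Odd a) (ha3 : 3 ≤ a)
    (hC : Nat.card (Subgroup.centralizer ({σ ^ 2 ^ (k + 1)} : Set G)) = 2 ^ (k + 3) * u)
    (hCτ : Nat.card (Subgroup.centralizer ({σ ^ 2 ^ (k + 1), τ} : Set G)) = 4 * a)
    (hCστ : Nat.card (Subgroup.centralizer ({σ ^ 2 ^ (k + 1), σ * τ} : Set G)) = 4) :
    k = 0 ∧ ((a = 3 ∧ 3 * Nat.card G = 280 * u ^ 3) ∨ (a = 5 ∧ 25 * Nat.card G = 1512 * u ^ 3)) := by
  obtain ⟨M, hM⟩ := Blocks.exists_isPModular Nat.prime_two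
  obtain ⟨x₁, x₂, x₃, δ₁, δ₂, δ₃, hx₁, hx₂, hx₃, hδ₁, hδ₂, hδ₃, hrel3, ⟨hP, hdvd⟩, hform, hsec⟩ :=
    degree_equations M hM k P σ τ hσ hτ hσo hτo hrel hgen hconj
  rw [hC, hCτ, hCστ] at hform hsec
  push_cast at hform hsec
  set X : ℤ := δ₁ * x₁ with hX
  have hg : (0 : ℚ) < Nat.card G := by exact_mod_cast Nat.card_pos
  have hu0 : (0 : ℚ) < u := by exact_mod_cast hu.pos
  have ha0 : (0 : ℚ) < a := by exact_mod_cast ha.pos
  have h8 : (8 : ℤ) ∣ X - 1 := by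
    have h1 : (8 : ℤ) ∣ (Nat.card P : ℤ) := ⟨2 ^ k, by rw [hP]; push_cast; ring⟩
    rw [hX, show δ₁ * (x₁ : ℤ) - 1 = δ₁ * ((x₁ : ℤ) - δ₁) by rcases hδ₁ with r | r <;> rw [r] <;> ring]
    exact (h1.trans hdvd).mul_left _
  have hXq : (X : ℚ) ≠ 0 := by
    have : X ≠ 0 := by rcases hδ₁ with r | r <;> rw [hX, r] <;> omega
    exact_mod_cast this
  have hc0 : (0 : ℚ) < 2 ^ (k + 3) * u := by positivity
  have hform' : (Nat.card G : ℚ) * ((X : ℚ) - 1) ^ 2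
      = 2 * X * (X + 1) * (2 ^ (k + 3) * (u : ℚ)) ^ 3 * (1 / (4 * a) + 1 / 4) ^ 2 := by
    rw [hX]; push_cast
    rcases hδ₁ with r | r <;> rw [r] at hform ⊢ <;> push_cast at hform ⊢ <;> linear_combination hform
  have hX1 : X ≠ 1 := by
    intro e
    rw [e] at hform'
    have : (0 : ℚ) < 4 * (2 ^ (k + 3) * (u : ℚ)) ^ 3 * (1 / (4 * a) + 1 / 4) ^ 2 := by positivity
    push_cast at hform'
    refine this.ne' ?_
    linear_combination -hform'
  set Y : ℤ := -δ₂ * x₂ with hY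
  set Z : ℤ := -δ₃ * x₃ with hZ
  have hYq : (Y : ℚ) ≠ 0 := by
    have : Y ≠ 0 := by rcases hδ₂ with r | r <;> rw [hY, r] <;> omega
    exact_mod_cast this
  have hZq : (Z : ℚ) ≠ 0 := by
    have : Z ≠ 0 := by rcases hδ₃ with r | r <;> rw [hZ, r] <;> omega
    exact_mod_cast this
  have hsum : Y + Z = 1 + X := by rw [hX, hY, hZ]; linarith
  have hsec' : (Nat.card G : ℚ) * ((X + 1) * ((Y : ℚ) * Z - X))
      = 8 * (2 ^ (k + 3) * (u : ℚ)) ^ 3 / (4 * a * 4) * (X * ((Y : ℚ) * Z)) := by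
    rw [← hsec]
    have hs : (Y : ℚ) + Z = 1 + X := by exact_mod_cast hsum
    have e1 : (δ₁ : ℚ) / x₁ = 1 / X := by rw [hX]; push_cast; rcases hδ₁ with r | r <;> rw [r] <;> push_cast <;> field_simp
    have e2 : (δ₂ : ℚ) / x₂ = -(1 / Y) := by rw [hY]; push_cast; rcases hδ₂ with r | r <;> rw [r] <;> push_cast <;> field_simp
    have e3 : (δ₃ : ℚ) / x₃ = -(1 / Z) := by rw [hZ]; push_cast; rcases hδ₃ with r | r <;> rw [r] <;> push_cast <;> field_simp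
    rw [e1, e2, e3]
    field_simp
    linear_combination (X : ℚ) * hs
  have hE : (X + 1) ^ 2 * ((a : ℤ) + 1) ^ 2 * (Y * Z - X) = 4 * (a : ℤ) * (X - 1) ^ 2 * (Y * Z) := by
    have key : ((X : ℚ) + 1) ^ 2 * ((a : ℚ) + 1) ^ 2 * (Y * Z - X) = 4 * a * ((X : ℚ) - 1) ^ 2 * (Y * Z) := by
      have h1 : (Nat.card G : ℚ) * ((X : ℚ) - 1) ^ 2 * (16 * (a : ℚ) ^ 2)
          = 2 * X * (X + 1) * (2 ^ (k + 3) * (u : ℚ)) ^ 3 * (1 + (a : ℚ)) ^ 2 := by
        rw [hform']; field_simp; ring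
      have h2 : (Nat.card G : ℚ) * ((X + 1) * ((Y : ℚ) * Z - X)) * (2 * a)
          = (2 ^ (k + 3) * (u : ℚ)) ^ 3 * (X * ((Y : ℚ) * Z)) := by
        rw [hsec']; field_simp; ring
      refine mul_left_cancel₀ (mul_ne_zero (mul_ne_zero (mul_ne_zero two_ne_zero hXq) (pow_ne_zero 3 hc0.ne')) hg.ne') ?_
      linear_combination (-(Nat.card G : ℚ) * (X + 1) * ((Y : ℚ) * Z - X)) * h1
        + 8 * (a : ℚ) * (Nat.card G : ℚ) * ((X : ℚ) - 1) ^ 2 * h2
    exact_mod_cast key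
  obtain ⟨rfl, hXv⟩ | ⟨rfl, hXv⟩ :
      (a = 3 ∧ X = -15) ∨ (a = 5 ∧ X = -7) := by
    rcases degree_cases (a := (a : ℤ)) (by omega) (by exact_mod_cast ha) h8 hX1 hsum hE with h | h <;> omega
  all_goals
    have hodd : Odd (P : Subgroup G).index := Nat.not_even_iff_odd.mp fun h => P.not_dvd_index (even_iff_two_dvd.mp h)
    have hG : Nat.card G = 2 ^ (k + 3) * (P : Subgroup G).index := by
      rw [← (P : Subgroup G).card_mul_index, hP]; ring
    have hG' : (Nat.card G : ℚ) = 2 ^ (k + 3) * ((P : Subgroup G).index : ℚ) := by exact_mod_cast hG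
    rw [hXv, hG'] at hform'
    push_cast at hform'
    have e3 : ((2 : ℚ) ^ (k + 3)) ≠ 0 := pow_ne_zero _ two_ne_zero
    have e8 : (2 : ℚ) ^ k * 2 ^ k = 4 ^ k := by rw [← mul_pow]; norm_num
  · have h : 3 * (P : Subgroup G).index = 4 ^ k * (35 * u ^ 3) := by
      have : (3 : ℚ) * ((P : Subgroup G).index : ℚ) = 4 ^ k * (35 * (u : ℚ) ^ 3) := by
        rw [← e8]
        refine mul_left_cancel₀ e3 ?_
        linear_combination (3 / 256 : ℚ) * hform'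
      exact_mod_cast this
    have hk : k = 0 := by
      by_contra hk
      obtain ⟨q, hq⟩ : 2 ∣ 4 ^ k * (35 * u ^ 3) := (dvd_pow (by norm_num) hk).mul_right _
      obtain ⟨i, hi⟩ := hodd
      omega
    subst hk
    refine ⟨rfl, Or.inl ⟨rfl, ?_⟩⟩
    rw [hG]
    norm_num at h ⊢
    linarith
  · have h : 25 * (P : Subgroup G).index = 4 ^ k * (189 * u ^ 3) := by
      have : (25 : ℚ) * ((P : Subgroup G).index : ℚ) = 4 ^ k * (189 * (u : ℚ) ^ 3) := by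
        rw [← e8]
        refine mul_left_cancel₀ e3 ?_
        linear_combination (25 / 64 : ℚ) * hform'
      exact_mod_cast this
    have hk : k = 0 := by
      by_contra hk
      obtain ⟨q, hq⟩ : 2 ∣ 4 ^ k * (189 * u ^ 3) := (dvd_pow (by norm_num) hk).mul_right _
      obtain ⟨i, hi⟩ := hodd
      omega
    subst hk
    refine ⟨rfl, Or.inr ⟨rfl, ?_⟩⟩
    rw [hG]
    norm_num at h ⊢
    linarith

end Cfsg.Agent.GWSeven
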